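import Groth.Agent.L28.ProEt.LC.Eps
import Groth.Agent.L28.ProEt.Cech.GoodCover
import Groth.Agent.L28.ProEt.PullbackLimit
import Groth.Agent.L28.LocConst.EtMod
import Groth.Agent.S7282

/-!
Sections of locally constant sheaves over limits of étale objects descend to a stage.
-/

set_option autoImplicit false
set_option linter.style.haveILetI false
set_option linter.unusedSectionVars false

universe u

open CategoryTheory CategoryTheory.Limits AlgebraicGeometry Opposite

set_option backward.isDefEq.respectTransparency.types false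

namespace Groth.L28.ProEt.LC

open Groth.L28.ProEt.Cech (sch IsGood Good exists_pres)

variable {X : Scheme.{u}} {Λ : Type (u + 1)} [CommRing Λ] [ProEtS.EpsCont X]

/-- the tautological trivialisation of a constant sheaf -/
theorem isTriv_const (M : ModuleCat.{u + 1} Λ) (U : X.Etale) :
    IsTriv ((constantSheaf X.smallEtaleTopology (ModuleCat.{u + 1} Λ)).obj M)
      (LocConst.cs X.smallEtaleTopology M U).hom := by
  have key : ∀ {V W : X.Etale} (g : W ⟶ V) (m : M),
      rs ((constantSheaf X.smallEtaleTopology (ModuleCat.{u + 1} Λ)).obj M) g (LocConst.cs X.smallEtaleTopology M V m) =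
        LocConst.cs X.smallEtaleTopology M W m :=
    fun g m => ConcreteCategory.congr_hom (LocConst.cs_map (J := X.smallEtaleTopology) M g) m
  refine ⟨fun {V} g t => ⟨_, Presheaf.imageSieve_mem _ (toSheafify _ _) t, fun {Z} f ⟨m, hm⟩ => ⟨m, ?_⟩⟩,
    fun {V} g m hm => ?_⟩
  · exact (key (f ≫ g) m).trans hm
  · by_cases h0 : m = 0
    · exact Or.inl h0
    have h1 : LocConst.cs X.smallEtaleTopology M V m = 0 := (key g m).symm.trans hm
    exact Or.inr (X.smallEtaleTopology.superset_covering (fun Z f hf => (h0 (hf : _ = _)).elim)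
      (Presheaf.equalizerSieve_mem X.smallEtaleTopology
        (toSheafify X.smallEtaleTopology ((Functor.const (X.Etale)ᵒᵖ).obj M)) (X := op V) m 0
        (h1.trans (map_zero _).symm)))

variable {G : EtModW.ModP Λ X}

section System

variable {U₀ : X.Etale} [IsAffine U₀.left] {Q : X.ProEt} [IsAffine Q.left] (q : Q ⟶ (ProEtS.eps X).obj U₀)
  {M : Type (u + 1)} [AddCommGroup M] [Module Λ M] (h : M →ₗ[Λ] Sec G Q)
  {I : Type u} [SmallCategory I] [IsCofiltered I] {D : I ⥤ X.ProEt} (hD : ∀ i, IsAffine (D.obj i).left)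
  (c : Cone D) (p : ∀ i, D.obj i ⟶ Q) (hp : ∀ {i j : I} (f : i ⟶ j), D.map f ≫ p j = p i)
  (hl : IsLimit ((sch X).mapCone c))

include q hD hp hl in
/-- two trivialised sheaves agree over the base, with the abelian inverse image -/
theorem sections_colimit (Hh : IsTriv G h) (pc : c.pt ⟶ Q) (hpc : ∀ i, c.π.app i ≫ p i = pc) :
    (∀ s : Sec G c.pt, ∃ (i : I) (σ : Sec G (D.obj i)), rs G (c.π.app i) σ = s) ∧
    (∀ {i : I} (σ : Sec G (D.obj i)), rs G (c.π.app i) σ = 0 → ∃ (j : I) (f : j ⟶ i), rs G (D.map f) σ = 0) := by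
  let C : EtModW.Mod Λ X := (constantSheaf X.smallEtaleTopology (ModuleCat.{u + 1} Λ)).obj (ModuleCat.of Λ M)
  let G₀ := (EtModW.epsPullMod Λ X).obj C
  have H₀ : IsTriv G₀ (res G₀ q ((eta C U₀).comp (LocConst.cs X.smallEtaleTopology (ModuleCat.of Λ M) U₀).hom)) :=
    (isTriv_const (ModuleCat.of Λ M) U₀).eps.restrict q
  let θ := H₀.iso ≪≫ Hh.iso.symm
  let ov : ∀ i, Over Q := fun i => Over.mk (p i)
  let ovπ : ∀ i, Over.mk pc ⟶ ov i := fun i => Over.homMk (c.π.app i) (hpc i)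
  let ovf : ∀ {i j : I} (_ : i ⟶ j), ov i ⟶ ov j := fun f => Over.homMk (D.map f) (hp f)
  let e : ∀ W : Over Q, Sec G₀ W.left ≃ₗ[Λ] Sec G W.left := fun W =>
    (((sheafToPresheaf _ _).mapIso θ).app (op W)).toLinearEquiv
  have en : ∀ {W W' : Over Q} (f : W' ⟶ W) (x : Sec G₀ W.left), rs G f.left (e W x) = e W' (rs G₀ f.left x) :=
    fun f x => (NatTrans.naturality_apply θ.hom.hom f.op x).symm
  haveI : ∀ i, IsAffine (D.obj i).left := hD
  haveI : ∀ (i j : I) (a : i ⟶ j), IsAffineHom (D.map a).left := fun i j a => inferInstance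
  haveI : ∀ i, CompactSpace ↥(D.obj i).left := fun i => inferInstance
  haveI : ∀ i, QuasiSeparatedSpace ↥(D.obj i).left := fun i => inferInstance
  obtain ⟨hc⟩ := Groth.Agent.S7282.result X D c hl (ab C)
  refine ⟨fun s => ?_, fun {i} σ hσ => ?_⟩
  · obtain ⟨x, hx⟩ := (th_bijective C c.pt).2 ((e (Over.mk pc)).symm s)
    obtain ⟨⟨i⟩, y, hy⟩ := Concrete.isColimit_exists_rep _ hc x
    refine ⟨i, e (ov i) (th C (D.obj i) y), (en (ovπ i) _).trans ?_⟩
    refine (congrArg (e (Over.mk pc)) ?_).trans ((e (Over.mk pc)).apply_symm_apply s)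
    exact ((th_map C (c.π.app i) y).symm.trans (congrArg (th C c.pt) hy)).trans hx
  · obtain ⟨y, hy⟩ := (th_bijective C (D.obj i)).2 ((e (ov i)).symm σ)
    have h0 : rs G₀ (c.π.app i) (th C (D.obj i) y) = 0 := by
      refine (e (Over.mk pc)).injective (((en (ovπ i) _).symm.trans ?_).trans (map_zero _).symm)
      rw [hy]
      exact (congrArg _ ((e (ov i)).apply_symm_apply σ)).trans hσ
    have h1 : (((ProEtS.epsPull X).obj (ab C)).obj.mapCocone c.op).ι.app (op i) y =
        (((ProEtS.epsPull X).obj (ab C)).obj.mapCocone c.op).ι.app (op i) 0 := by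
      refine (th_bijective C c.pt).1 ?_
      refine ((th_map C (c.π.app i) y).trans h0).trans ?_
      exact (((congrArg (th C c.pt) (map_zero _))).trans (map_zero _)).symm
    obtain ⟨⟨j⟩, f, f', hk⟩ := Concrete.isColimit_exists_of_rep_eq _ hc y 0 h1
    refine ⟨j, f.unop, ?_⟩
    have h2 : rs G₀ (D.map f.unop) (th C (D.obj i) y) = 0 := by
      refine (th_map C (D.map f.unop) y).symm.trans ((congrArg (th C (D.obj j)) ?_).trans (map_zero _))
      exact hk.trans (map_zero _)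
    rw [← (e (ov i)).apply_symm_apply σ, ← hy]
    exact (en (ovf f.unop) _).trans ((congrArg _ h2).trans (map_zero _))

end System

/-- the constant cone on a connected index category is a limit -/
noncomputable def isLimitConst {E : Type*} [Category E] {C : Type*} [Category C] {I : Type u} [SmallCategory I]
    [IsConnected I] (F : C ⥤ E) (Q : C) :
    IsLimit (F.mapCone (Cone.mk Q (𝟙 ((Functor.const I).obj Q)))) where
  lift s := s.π.app (Classical.arbitrary I)
  fac s i := by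
    have h : ∀ a b : I, s.π.app a = s.π.app b :=
      constant_of_preserves_morphisms (J := I) (α := s.pt ⟶ F.obj Q) (fun a => s.π.app a) (fun a b f => by
        refine Eq.trans ?_ (s.w f)
        exact ((congrArg (fun k => s.π.app a ≫ k) (F.map_id Q)).trans (Category.comp_id _)).symm)
    exact ((congrArg (fun k => _ ≫ k) (F.map_id Q)).trans (Category.comp_id _)).trans (h _ i)
  uniq s m hm := by
    refine Eq.trans ?_ (hm (Classical.arbitrary I))
    exact ((congrArg (fun k => m ≫ k) (F.map_id Q)).trans (Category.comp_id _)).symm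

theorem exists_common_stage {I : Type u} [SmallCategory I] [IsCofiltered I] {i₀ : I} {κ : Type u} [Finite κ]
    (P : κ → ∀ j : I, (j ⟶ i₀) → Prop) (hP : ∀ k {j j' : I} (f : j ⟶ i₀) (g : j' ⟶ j), P k j f → P k j' (g ≫ f))
    (h : ∀ k, ∃ (j : I) (f : j ⟶ i₀), P k j f) : ∃ (j : I) (f : j ⟶ i₀), ∀ k, P k j f := by
  classical
  haveI := Fintype.ofFinite κ
  suffices ∀ s : Finset κ, ∃ (j : I) (f : j ⟶ i₀), ∀ k ∈ s, P k j f by
    obtain ⟨j, f, hf⟩ := this Finset.univ
    exact ⟨j, f, fun k => hf k (Finset.mem_univ k)⟩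
  intro s
  induction s using Finset.induction_on with
  | empty => exact ⟨i₀, 𝟙 _, fun k hk => absurd hk (Finset.notMem_empty k)⟩
  | insert a s ha ih =>
    obtain ⟨j, f, hf⟩ := ih
    obtain ⟨j', f', hf'⟩ := h a
    obtain ⟨k, g, g', hg⟩ := IsCofiltered.cospan f f'
    refine ⟨k, g ≫ f, fun b hb => ?_⟩
    rcases Finset.mem_insert.1 hb with rfl | hb
    · rw [hg]; exact hP _ f' g' hf'
    · exact hP _ f g (hf b hb)

section Pb

variable {T A A' A'' Q Q' : X.ProEt}

/-- base change of a map over `T` on the right -/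
noncomputable def pbr (q : Q ⟶ T) {a : A ⟶ T} {a' : A' ⟶ T} (b : A ⟶ A') (hb : b ≫ a' = a) :
    pullback q a ⟶ pullback q a' :=
  pullback.lift (pullback.fst q a) (pullback.snd q a ≫ b) (by rw [Category.assoc, hb, pullback.condition])

/-- base change of a map over `T` on the left -/
noncomputable def pbl {q : Q ⟶ T} {q' : Q' ⟶ T} (b : Q ⟶ Q') (hb : b ≫ q' = q) (a : A ⟶ T) :
    pullback q a ⟶ pullback q' a :=
  pullback.lift (pullback.fst q a ≫ b) (pullback.snd q a) (by rw [Category.assoc, hb, pullback.condition])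

@[reassoc (attr := simp)]
theorem pbr_fst (q : Q ⟶ T) {a : A ⟶ T} {a' : A' ⟶ T} (b : A ⟶ A') (hb : b ≫ a' = a) :
    pbr q b hb ≫ pullback.fst q a' = pullback.fst q a := pullback.lift_fst _ _ _

@[reassoc (attr := simp)]
theorem pbr_snd (q : Q ⟶ T) {a : A ⟶ T} {a' : A' ⟶ T} (b : A ⟶ A') (hb : b ≫ a' = a) :
    pbr q b hb ≫ pullback.snd q a' = pullback.snd q a ≫ b := pullback.lift_snd _ _ _

@[reassoc (attr := simp)]
theorem pbl_fst {q : Q ⟶ T} {q' : Q' ⟶ T} (b : Q ⟶ Q') (hb : b ≫ q' = q) (a : A ⟶ T) :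
    pbl b hb a ≫ pullback.fst q' a = pullback.fst q a ≫ b := pullback.lift_fst _ _ _

@[reassoc (attr := simp)]
theorem pbl_snd {q : Q ⟶ T} {q' : Q' ⟶ T} (b : Q ⟶ Q') (hb : b ≫ q' = q) (a : A ⟶ T) :
    pbl b hb a ≫ pullback.snd q' a = pullback.snd q a := pullback.lift_snd _ _ _

theorem pbr_comp (q : Q ⟶ T) {a : A ⟶ T} {a' : A' ⟶ T} {a'' : A'' ⟶ T} (b : A ⟶ A') (hb : b ≫ a' = a)
    (b' : A' ⟶ A'') (hb' : b' ≫ a'' = a') (b'' : A ⟶ A'') (hb'' : b'' ≫ a'' = a) (e : b ≫ b' = b'') :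
    pbr q b hb ≫ pbr q b' hb' = pbr q b'' hb'' := by
  subst e
  exact pullback.hom_ext (by simp) (by simp)

theorem pbl_pbr {q : Q ⟶ T} {q' : Q' ⟶ T} (c : Q ⟶ Q') (hc : c ≫ q' = q) {a : A ⟶ T} {a' : A' ⟶ T}
    (b : A ⟶ A') (hb : b ≫ a' = a) : pbl c hc a ≫ pbr q' b hb = pbr q b hb ≫ pbl c hc a' :=
  pullback.hom_ext (by simp) (by simp)

end Pb

section Stage

variable {U₀ : X.Etale} [IsAffine U₀.left] {I : Type u} [SmallCategory I] [IsCofiltered I] {DW : I ⥤ X.ProEt}
  (cW : Cone DW) (aW : ∀ i, DW.obj i ⟶ (ProEtS.eps X).obj U₀)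
  (haW : ∀ {i j : I} (f : i ⟶ j), DW.map f ≫ aW j = aW i) (r : cW.pt ⟶ (ProEtS.eps X).obj U₀)
  (hr : ∀ i, cW.π.app i ≫ aW i = r) (haff : ∀ i, IsAffine (DW.obj i).left)
  (hl : IsLimit ((sch X).mapCone cW))

set_option maxHeartbeats 800000 in
include haff hl in
theorem pullback_system {Q : X.ProEt} [IsAffine Q.left] (q : Q ⟶ (ProEtS.eps X).obj U₀) {M : Type (u + 1)}
    [AddCommGroup M] [Module Λ M] (h : M →ₗ[Λ] Sec G Q) (Hh : IsTriv G h) :
    (∀ s : Sec G (pullback q r), ∃ (i : I) (σ : Sec G (pullback q (aW i))),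
      rs G (pbr q (cW.π.app i) (hr i)) σ = s) ∧
    (∀ {i : I} (σ : Sec G (pullback q (aW i))), rs G (pbr q (cW.π.app i) (hr i)) σ = 0 →
      ∃ (j : I) (f : j ⟶ i), rs G (pbr q (DW.map f) (haW f)) σ = 0) := by
  haveI : IsConnected I := IsCofiltered.isConnected I
  haveI : IsAffine ((ProEtS.eps X).obj U₀).left := ‹IsAffine U₀.left›
  haveI := haff
  have hq : ∀ {i j : I} (f : i ⟶ j), ((Functor.const I).obj Q).map f ≫ q = q := fun f => Category.id_comp _
  let c₁ : Cone ((Functor.const I).obj Q) := Cone.mk Q (𝟙 _)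
  let DQ := Pb.diag (D₁ := (Functor.const I).obj Q) (fun _ => q) aW hq haW
  let cQ : Cone DQ := Pb.cone (fun _ => q) aW hq haW c₁ cW q r (fun _ => Category.id_comp _) hr
  have hlQ : IsLimit ((sch X).mapCone cQ) :=
    Pb.isLimit (fun _ => q) aW hq haW c₁ cW q r (fun _ => Category.id_comp _) hr (sch X)
      (isLimitConst (sch X) Q) hl
  have hm : ∀ {i j : I} (f : i ⟶ j), DQ.map f = pbr q (DW.map f) (haW f) := fun {i j} f =>
    pullback.hom_ext
      (((Pb.diag_fst (D₁ := (Functor.const I).obj Q) (fun _ => q) aW hq haW f).trans (Category.comp_id _)).trans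
        (pbr_fst q (DW.map f) (haW f)).symm)
      ((Pb.diag_snd (D₁ := (Functor.const I).obj Q) (fun _ => q) aW hq haW f).trans (pbr_snd q (DW.map f) (haW f)).symm)
  have hp : ∀ i, cQ.π.app i = pbr q (cW.π.app i) (hr i) := fun i =>
    pullback.hom_ext
      (((Pb.proj_fst (D₁ := (Functor.const I).obj Q) (fun _ => q) aW c₁ cW q r (fun _ => Category.id_comp q) hr i).trans (Category.comp_id _)).trans
        (pbr_fst q (cW.π.app i) (hr i)).symm)
      ((Pb.proj_snd (D₁ := (Functor.const I).obj Q) (fun _ => q) aW c₁ cW q r (fun _ => Category.id_comp q) hr i).trans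
        (pbr_snd q (cW.π.app i) (hr i)).symm)
  obtain ⟨k₁, k₂⟩ := sections_colimit (G := G) q h (D := DQ) (fun i => isAffine_pullback q (aW i)) cQ
    (fun i => pullback.fst q (aW i)) (fun f => (congrArg (fun m => m ≫ pullback.fst q _) (hm f)).trans (pbr_fst _ _ _))
    hlQ Hh (pullback.fst q r) (fun i => (congrArg (fun m => m ≫ pullback.fst q _) (hp i)).trans (pbr_fst _ _ _))
  refine ⟨fun s => ?_, fun {i} σ hσ => ?_⟩
  · obtain ⟨i, σ, hσ⟩ := k₁ s
    exact ⟨i, σ, hp i ▸ hσ⟩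
  · obtain ⟨j, f, hf⟩ := k₂ σ ((hp i).symm ▸ hσ)
    exact ⟨j, f, hm f ▸ hf⟩

include haW hr haff hl in
theorem exists_stage (hG : LocTriv G) [IsAffine cW.pt.left] (s : Sec G cW.pt) :
    ∃ (j : I) (t : Sec G (DW.obj j)), rs G (cW.π.app j) t = s := by
  classical
  haveI : IsAffine ((ProEtS.eps X).obj U₀).left := ‹IsAffine U₀.left›
  haveI := haff
  obtain ⟨ι, hι, P, g, hP, hcov, hM⟩ := exists_pieces hG (A := (ProEtS.eps X).obj U₀) (fun k : Fin 0 => k.elim0)
  haveI : Finite ι := hι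
  haveI : ∀ k, IsAffine (P k).left := hP
  choose M _ _ hMfin h Hh _ using hM
  have hex : ∀ k, ∃ (i : I) (σ : Sec G (pullback (g k) (aW i))),
      rs G (pbr (g k) (cW.π.app i) (hr i)) σ = rs G (pullback.snd (g k) r) s :=
    fun k => (pullback_system cW aW haW r hr haff hl (g k) (h k) (Hh k)).1 _
  choose i σ hσ using hex
  obtain ⟨i₀, hi₀⟩ : ∃ i₀ : I, ∀ k, Nonempty (i₀ ⟶ i k) := by
    obtain ⟨i₀, hi₀⟩ := IsCofiltered.inf_objs_exists (Set.finite_range i).toFinset
    exact ⟨i₀, fun k => hi₀ ((Set.finite_range i).mem_toFinset.2 ⟨k, rfl⟩)⟩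
  let d := fun k => (hi₀ k).some
  obtain ⟨tk, htk0⟩ : ∃ tk : ∀ (k : ι) (j : I) (_ : j ⟶ i₀), Sec G (pullback (g k) (aW j)),
      ∀ k j f, tk k j f = rs G (pbr (g k) (DW.map (f ≫ d k)) (haW _)) (σ k) := ⟨_, fun _ _ _ => rfl⟩
  have htk : ∀ (k : ι) {j j' : I} (f : j ⟶ i₀) (e : j' ⟶ j),
      rs G (pbr (g k) (DW.map e) (haW e)) (tk k j f) = tk k j' (e ≫ f) := fun k j j' f e => by
    rw [htk0, htk0, ← rs_comp, pbr_comp (g k) (DW.map e) _ (DW.map (f ≫ d k)) _ (DW.map ((e ≫ f) ≫ d k)) (haW _)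
      (by rw [← DW.map_comp, Category.assoc])]
  have htk' : ∀ (k : ι) (j : I) (f : j ⟶ i₀),
      rs G (pbr (g k) (cW.π.app j) (hr j)) (tk k j f) = rs G (pullback.snd (g k) r) s := fun k j f => by
    rw [htk0, ← rs_comp, pbr_comp (g k) (cW.π.app j) _ (DW.map (f ≫ d k)) _ (cW.π.app (i k)) (hr _) (cW.w _), hσ]
  let qq : ∀ kl : ι × ι, pullback (g kl.1) (g kl.2) ⟶ (ProEtS.eps X).obj U₀ :=
    fun kl => pullback.fst (g kl.1) (g kl.2) ≫ g kl.1
  let l₁ : ∀ (kl : ι × ι) {A : X.ProEt} (a : A ⟶ (ProEtS.eps X).obj U₀), pullback (qq kl) a ⟶ pullback (g kl.1) a :=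
    fun kl {A} a => pbl (pullback.fst _ _) rfl a
  let l₂ : ∀ (kl : ι × ι) {A : X.ProEt} (a : A ⟶ (ProEtS.eps X).obj U₀), pullback (qq kl) a ⟶ pullback (g kl.2) a :=
    fun kl {A} a => pbl (pullback.snd _ _) pullback.condition.symm a
  have hl₁ : ∀ (kl : ι × ι) {A A' : X.ProEt} {a : A ⟶ (ProEtS.eps X).obj U₀} {a' : A' ⟶ (ProEtS.eps X).obj U₀}
      (b : A ⟶ A') (hb : b ≫ a' = a), pbr (qq kl) b hb ≫ l₁ kl a' = l₁ kl a ≫ pbr (g kl.1) b hb :=
    fun kl _ _ _ _ b hb => (pbl_pbr _ _ b hb).symm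
  have hl₂ : ∀ (kl : ι × ι) {A A' : X.ProEt} {a : A ⟶ (ProEtS.eps X).obj U₀} {a' : A' ⟶ (ProEtS.eps X).obj U₀}
      (b : A ⟶ A') (hb : b ≫ a' = a), pbr (qq kl) b hb ≫ l₂ kl a' = l₂ kl a ≫ pbr (g kl.2) b hb :=
    fun kl _ _ _ _ b hb => (pbl_pbr _ _ b hb).symm
  let P' : ι × ι → ∀ j : I, (j ⟶ i₀) → Prop :=
    fun kl j f => rs G (l₁ kl (aW j)) (tk kl.1 j f) = rs G (l₂ kl (aW j)) (tk kl.2 j f)
  obtain ⟨j, f, hj⟩ := exists_common_stage P' (fun kl {j j'} f e hf => by
    show rs G (l₁ kl (aW j')) _ = rs G (l₂ kl (aW j')) _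
    rw [← htk, ← htk, ← rs_comp, ← rs_comp _ _ (l₂ kl (aW j')), ← hl₁, ← hl₂, rs_comp, rs_comp]
    exact congrArg _ hf) fun kl => by
      haveI : IsAffine (pullback (g kl.1) (g kl.2)).left := isAffine_pullback _ _
      obtain ⟨j, f, hf⟩ := (pullback_system cW aW haW r hr haff hl (qq kl)
        (res G (pullback.fst (g kl.1) (g kl.2)) (h kl.1)) ((Hh kl.1).restrict _)).2
        (i := i₀) (rs G (l₁ kl _) (tk kl.1 i₀ (𝟙 _)) - rs G (l₂ kl _) (tk kl.2 i₀ (𝟙 _))) (by
          rw [map_sub, sub_eq_zero, ← rs_comp, ← rs_comp]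
          rw [hl₁, hl₂, rs_comp, rs_comp, htk', htk', ← rs_comp, ← rs_comp, pbl_snd, pbl_snd])
      refine ⟨j, f, ?_⟩
      rw [map_sub, sub_eq_zero, ← rs_comp, ← rs_comp] at hf
      rw [hl₁, hl₂, rs_comp, rs_comp, htk, htk, Category.comp_id] at hf
      exact hf
  haveI : ∀ k, IsAffine (pullback (g k) (aW j)).left := fun k => isAffine_pullback _ _
  haveI : ∀ k, QuasiCompact (pullback.snd (g k) (aW j)).left := fun k => inferInstance
  have hmem := L27.ProEt.generate_ofArrows_mem_of_quasiCompact (fun k => pullback (g k) (aW j))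
    (fun k => pullback.snd (g k) (aW j)) fun x => by
      obtain ⟨k, y, hy⟩ := hcov ((aW j).left x)
      obtain ⟨z, -, hz⟩ := exists_preimage (g k) (aW j) y x hy
      exact ⟨k, z, hz⟩
  have hsh := (isSheaf_iff_isSheaf_of_type _ _).mp
    (Presheaf.isSheaf_comp_of_isSheaf _ G.obj (forget (ModuleCat.{u + 1} Λ)) G.property)
  obtain ⟨t, ht, -⟩ := ((Presieve.isSheafFor_arrows_iff _ _).mp ((Presieve.isSheafFor_iff_generate _).mpr (hsh _ hmem)))
    (fun k => tk k j f) (fun k l Z gk gl hkl => by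
      let w : Z ⟶ pullback (g k) (g l) := pullback.lift (gk ≫ pullback.fst _ _) (gl ≫ pullback.fst _ _) (by
        rw [Category.assoc, Category.assoc, pullback.condition, pullback.condition, ← Category.assoc, hkl,
          Category.assoc])
      let lift : Z ⟶ pullback (qq (k, l)) (aW j) := pullback.lift w (gk ≫ pullback.snd _ _) (by
        simp only [qq, w]
        rw [pullback.lift_fst_assoc, Category.assoc, Category.assoc, pullback.condition])
      have e1 : lift ≫ l₁ (k, l) (aW j) = gk := pullback.hom_ext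
        (by
          refine ((Category.assoc _ _ _).trans (congrArg (fun m => lift ≫ m) (pbl_fst _ _ _))).trans ?_
          refine (Category.assoc _ _ _).symm.trans ((congrArg (fun m => m ≫ _) (pullback.lift_fst _ _ _)).trans ?_)
          exact pullback.lift_fst _ _ _)
        (((Category.assoc _ _ _).trans (congrArg (fun m => lift ≫ m) (pbl_snd _ _ _))).trans (pullback.lift_snd _ _ _))
      have e2 : lift ≫ l₂ (k, l) (aW j) = gl := pullback.hom_ext
        (by
          refine ((Category.assoc _ _ _).trans (congrArg (fun m => lift ≫ m) (pbl_fst _ _ _))).trans ?_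
          refine (Category.assoc _ _ _).symm.trans ((congrArg (fun m => m ≫ _) (pullback.lift_fst _ _ _)).trans ?_)
          exact pullback.lift_snd _ _ _)
        ((((Category.assoc _ _ _).trans (congrArg (fun m => lift ≫ m) (pbl_snd _ _ _))).trans
          (pullback.lift_snd _ _ _)).trans hkl)
      show rs G gk _ = rs G gl _
      rw [← e1, ← e2, rs_comp, rs_comp _ _ lift]
      exact congrArg _ (hj (k, l)))
  refine ⟨j, t, ?_⟩
  haveI : ∀ k, IsAffine (pullback (g k) r).left := fun k => isAffine_pullback _ _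
  haveI : ∀ k, QuasiCompact (pullback.snd (g k) r).left := fun k => inferInstance
  refine ext_of_mem G (L27.ProEt.generate_ofArrows_mem_of_quasiCompact (fun k => pullback (g k) r)
    (fun k => pullback.snd (g k) r) fun x => by
      obtain ⟨k, y, hy⟩ := hcov (r.left x)
      obtain ⟨z, -, hz⟩ := exists_preimage (g k) r y x hy
      exact ⟨k, z, hz⟩) ?_
  intro V m hm
  obtain ⟨_, b, _, ⟨k⟩, rfl⟩ := hm
  rw [rs_comp _ _ b, rs_comp _ _ b]
  refine congrArg _ ?_
  rw [← htk' k j f, ← rs_comp, ← pbr_snd (g k) (cW.π.app j) (hr j), rs_comp]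
  exact congrArg _ (ht k)

end Stage

theorem exists_stage_section (hG : LocTriv G) {W : X.ProEt} (hW : IsGood W) (s : Sec G W) :
    ∃ (T : X.Etale) (r : W ⟶ (ProEtS.eps X).obj T) (s₀ : Sec G ((ProEtS.eps X).obj T)), rs G r s₀ = s := by
  obtain ⟨U₀, hU₀, r, hgood⟩ := hW
  obtain ⟨I, _, _, D, a, π, haff, hπ, ⟨hl⟩⟩ := exists_pres hgood
  haveI := hU₀
  haveI := hgood.affine
  haveI : IsAffine (Cone.mk W π : Cone (D ⋙ ProEtS.eps X)).pt.left := hgood.affine
  obtain ⟨j, t, ht⟩ := exists_stage (Cone.mk W π) (fun i => (ProEtS.eps X).map (a.app i))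
    (fun {i j} f => ((ProEtS.eps X).map_comp _ _).symm.trans
      (congrArg (ProEtS.eps X).map ((a.naturality f).trans (Category.comp_id _))))
    r hπ haff hl hG s
  exact ⟨D.obj j, π.app j, t, ht⟩

end Groth.L28.ProEt.LC
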