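import Groth.Agent.L28.ProEt.LC.Pieces
import Groth.Agent.L28.ProEt.Pull
import Groth.Agent.L27.EtSite.Points

/-!
Trivialisations along `ε`.
-/

set_option autoImplicit false
set_option linter.style.haveILetI false
set_option linter.unusedSectionVars false

universe u

open CategoryTheory CategoryTheory.Limits AlgebraicGeometry Opposite

set_option backward.isDefEq.respectTransparency.types false

namespace Groth.L28.ProEt.LC

variable {X : Scheme.{u}} {Λ : Type (u + 1)} [CommRing Λ] [ProEtS.EpsCont X]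

theorem isEmpty_of_bot_et {U : X.Etale} (h : (⊥ : Sieve U) ∈ X.smallEtaleTopology U) : IsEmpty U.left :=
  ⟨fun x => by
    obtain ⟨_, _, _, hf, -⟩ := (Groth.L27.EtSite.mem_topology_iff _).1 h x
    exact False.elim hf⟩

theorem bot_et_of_isEmpty {U : X.Etale} (h : IsEmpty U.left) : (⊥ : Sieve U) ∈ X.smallEtaleTopology U :=
  (Groth.L27.EtSite.mem_topology_iff _).2 fun x => h.elim x

/-- the unit on sections of modules -/
noncomputable abbrev eta (F : EtModW.Mod Λ X) (U : X.Etale) :
    Sec F U →ₗ[Λ] Sec ((EtModW.epsPullMod Λ X).obj F) ((ProEtS.eps X).obj U) :=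
  (((epsAdjMod Λ X).unit.app F).hom.app (op U)).hom

variable (F : EtModW.Mod Λ X)

/-- the underlying abelian sheaf -/
noncomputable abbrev ab : EtCoh.Ab X := (forgetSh Λ X.smallEtaleTopology).obj F

/-- comparison with the abelian inverse image -/
noncomputable abbrev th (V : X.ProEt) :
    ((ProEtS.epsPull X).obj (ab F)).obj.obj (op V) ⟶
      (forget₂ (ModuleCat.{u + 1} Λ) AddCommGrpCat.{u + 1}).obj (((EtModW.epsPullMod Λ X).obj F).obj.obj (op V)) :=
  ((theta Λ X).hom.app F).hom.app (op V)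

theorem th_bijective (V : X.ProEt) : Function.Bijective (th F V) := by
  haveI : IsIso (th F V) :=
    (((sheafToPresheaf _ _).mapIso ((theta Λ X).app F)).app (op V)).isIso_hom
  exact ConcreteCategory.bijective_of_isIso _

theorem th_map {V W : X.ProEt} (f : W ⟶ V) (x : ((ProEtS.epsPull X).obj (ab F)).obj.obj (op V)) :
    th F W (((ProEtS.epsPull X).obj (ab F)).obj.map f.op x) = rs ((EtModW.epsPullMod Λ X).obj F) f (th F V x) :=
  NatTrans.naturality_apply ((theta Λ X).hom.app F).hom f.op x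

theorem th_unit (U : X.Etale) (s : Sec F U) :
    th F ((ProEtS.eps X).obj U) (((ProEtS.epsAdj X).unit.app (ab F)).hom.app (op U) s) = eta F U s :=
  (congrArg (fun k : ab F ⟶ (forgetSh Λ X.smallEtaleTopology).obj ((epsPushMod Λ X).obj ((EtModW.epsPullMod Λ X).obj F)) =>
    k.hom.app (op U) s) (forget_map_unit Λ X F)).symm

variable {F} {M : Type (u + 1)} [AddCommGroup M] [Module Λ M] {U : X.Etale} {h : M →ₗ[Λ] Sec F U}

theorem IsTriv.eps (H : IsTriv F h) :
    IsTriv ((EtModW.epsPullMod Λ X).obj F) ((eta F U).comp h) := by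
  let a := ab F
  let τ := Groth.L27.Fppf.tau a
  refine ⟨fun {V} g t => ?_, fun {V} g m hm => ?_⟩
  · obtain ⟨x, rfl⟩ := (th_bijective F V).2 t
    obtain ⟨R, hR, hrep⟩ := Groth.L27.Fppf.exists_epsRep a x
    let T : Sieve V :=
      { arrows := fun Z k => ∃ m : M, rs _ (k ≫ g) (eta F U (h m)) = rs _ k (th F V x)
        downward_closed := fun {Z Z'} k ⟨m, hm⟩ l => ⟨m, by rw [Category.assoc, rs_comp, hm, ← rs_comp]⟩ }
    refine ⟨T, (Scheme.ProEt.topology X).transitive hR T fun Z k hk => ?_, fun f hf => hf⟩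
    obtain ⟨E, c, s, hs⟩ := hrep Z k hk
    haveI := L27.ProEt.preservesFiniteLimits_eps X
    haveI : PreservesLimitsOfShape (Discrete WalkingPair) (ProEtS.eps X) :=
      PreservesFiniteLimits.preservesFiniteLimits _
    haveI : HasLimit (pair E U) := inferInstance
    obtain ⟨c', hc₁, hc₂⟩ : ∃ c' : Z ⟶ (ProEtS.eps X).obj (prod E U),
        c' ≫ (ProEtS.eps X).map prod.fst = c ∧ c' ≫ (ProEtS.eps X).map prod.snd = k ≫ g := by
      let hl := mapIsLimitOfPreservesOfIsLimit (ProEtS.eps X) prod.fst prod.snd (prodIsProd E U)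
      exact ⟨hl.lift (BinaryFan.mk c (k ≫ g)), hl.fac _ ⟨.left⟩, hl.fac _ ⟨.right⟩⟩
    obtain ⟨S, hS, hS'⟩ := H.exhaust (prod.snd : prod E U ⟶ U) (rs F (prod.fst : prod E U ⟶ E) s)
    refine (Scheme.ProEt.topology X).superset_covering ?_ ((Scheme.ProEt.topology X).pullback_stable c'
      ((L27.ProEt.coverPreserving_eps X).cover_preserve hS))
    rintro Z' f ⟨E', b, d, hb, hd⟩
    obtain ⟨m, hm⟩ := hS' b hb
    refine ⟨m, ?_⟩
    show rs _ ((f ≫ k) ≫ g) (eta F U (h m)) = rs _ (f ≫ k) (th F V x)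
    have e1 : rs ((EtModW.epsPullMod Λ X).obj F) k (th F V x) = rs _ c (eta F E s) := by
      rw [← th_map]
      refine (congrArg (th F Z) hs).trans ((th_map F c _).trans (congrArg _ ?_))
      exact th_unit F E s
    have hn : ∀ {A B : X.Etale} (q : B ⟶ A) (y : Sec F A),
        rs ((EtModW.epsPullMod Λ X).obj F) ((ProEtS.eps X).map q) (eta F A y) = eta F B (rs F q y) :=
      fun q y => (NatTrans.naturality_apply ((epsAdjMod Λ X).unit.app F).hom q.op y).symm
    rw [rs_comp _ k f, e1, Category.assoc, ← hc₂, ← hc₁, ← rs_comp, ← Category.assoc, ← Category.assoc, hd,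
      Category.assoc, Category.assoc, ← Functor.map_comp, ← Functor.map_comp, rs_comp, rs_comp _ _ d, hn, hn, hm,
      ← rs_comp]
  · by_cases h0 : m = 0
    · exact Or.inl h0
    refine Or.inr (bot_of_isEmpty ⟨fun v => ?_⟩)
    have h1 : ((ProEtS.epsPull X).obj a).obj.map g.op (((ProEtS.epsAdj X).unit.app a).hom.app (op U) (h m)) = 0 := by
      refine (th_bijective F V).1 ?_
      rw [th_map, th_unit]
      exact hm.trans (map_zero _).symm
    have h2 := (Groth.L27.Fppf.tau_map a g (h m)).symm.trans ((congrArg _ h1).trans (map_zero _))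
    obtain ⟨T', t, t', U', b, c', -, -, -, hb⟩ := Groth.L27.Fppf.e_eq_zero a _ (h m) h2 v
    exact (isEmpty_of_bot_et ((H.ker b m hb).resolve_left h0)).false (c'.left t')

end Groth.L28.ProEt.LC
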