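import Groth.Agent.L28.ProEt.LC.Triv
import Groth.Prelude.Def_EtModW
import Groth.Agent.L27.ProEt.Covers
import Groth.Agent.L27.ProEt.GeomLift
import Mathlib.AlgebraicGeometry.Morphisms.FlatDescent

/-!
Loci on the pro-étale site: where finitely many sections of a locally constant sheaf vanish, and where a family
of sections is a trivialisation, are open and the property holds over them.
-/

set_option autoImplicit false
set_option linter.style.haveILetI false
set_option linter.unusedSectionVars false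

universe u

open CategoryTheory CategoryTheory.Limits AlgebraicGeometry Opposite

set_option backward.isDefEq.respectTransparency.types false

namespace Groth.L28.ProEt.LC

open Groth.L27.ProEt

variable {X : Scheme.{u}}

/-- a sieve is pure on `P` if it contains `g : P ⟶ U` as soon as it contains a map from a nonempty object over it -/
def Pure {U : X.ProEt} (R : Sieve U) {P : X.ProEt} (g : P ⟶ U) : Prop :=
  ∀ {Z : X.ProEt} (z : Z ⟶ P), Nonempty Z.left → R (z ≫ g) → R g

/-- pieces over affine objects on which a sieve is pure -/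
def HasPieces {U : X.ProEt} (R : Sieve U) : Prop :=
  ∀ {A : X.ProEt}, IsAffine A.left → ∀ (a : A ⟶ U), ∃ (ι : Type u) (_ : Finite ι) (P : ι → X.ProEt)
    (g : ∀ i, P i ⟶ A), (∀ i, IsAffine (P i).left) ∧ (∀ x : A.left, ∃ i y, (g i).left y = x) ∧
      ∀ i, Pure R (g i ≫ a)

/-- the points hit by the sieve -/
def hits {U : X.ProEt} (R : Sieve U) : Set U.left :=
  {x | ∃ (Z : X.ProEt) (z : Z ⟶ U) (q : Z.left), R z ∧ z.left q = x}

theorem exists_preimage {A B U : X.ProEt} (f : A ⟶ U) (g : B ⟶ U) (a : A.left) (b : B.left)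
    (h : f.left a = g.left b) : ∃ z : (pullback f g).left,
      (pullback.fst f g).left z = a ∧ (pullback.snd f g).left z = b := by
  let H := (IsPullback.of_hasPullback f g).map (Scheme.ProEt.forget X ⋙ Over.forget X)
  obtain ⟨z, hz₁, hz₂⟩ := Scheme.Pullback.exists_preimage_pullback (f := f.left) (g := g.left) a b h
  refine ⟨H.isoPullback.inv z, ?_, ?_⟩
  · exact ((Scheme.Hom.comp_apply _ _ _).symm.trans (congrArg (fun k : pullback f.left g.left ⟶ A.left => k z)
      H.isoPullback_inv_fst)).trans hz₁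
  · exact ((Scheme.Hom.comp_apply _ _ _).symm.trans (congrArg (fun k : pullback f.left g.left ⟶ B.left => k z)
      H.isoPullback_inv_snd)).trans hz₂

theorem mem_of_hit {U : X.ProEt} {R : Sieve U} {P : X.ProEt} {g : P ⟶ U} (hg : Pure R g) (p : P.left)
    (hp : g.left p ∈ hits R) : R g := by
  obtain ⟨Z, z, q, hz, hq⟩ := hp
  obtain ⟨w, -, -⟩ := exists_preimage g z p q hq.symm
  refine hg (pullback.fst g z) ⟨w⟩ ?_
  rw [pullback.condition]
  exact R.downward_closed hz _

theorem preimage_hits {U : X.ProEt} {R : Sieve U} {P : X.ProEt} {g : P ⟶ U} (hg : Pure R g) :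
    g.left ⁻¹' hits R = Set.univ ∨ g.left ⁻¹' hits R = ∅ := by
  by_cases h : R g
  · exact Or.inl (Set.eq_univ_of_forall fun p => ⟨P, g, p, h, rfl⟩)
  · exact Or.inr (Set.eq_empty_iff_forall_notMem.2 fun p hp => h (mem_of_hit hg p hp))

theorem isOpen_of_preimage {A : Scheme.{u}} [IsAffine A] {ι : Type u} [Finite ι] {P : ι → Scheme.{u}}
    [∀ i, IsAffine (P i)] (g : ∀ i, P i ⟶ A) [∀ i, Flat (g i)] (hc : ∀ x : A, ∃ i y, g i y = x)
    {S : Set A} (h : ∀ i, IsOpen (g i ⁻¹' S)) : IsOpen S := by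
  let σ : (∐ P) ⟶ A := Sigma.desc g
  haveI : Flat σ := IsZariskiLocalAtSource.sigmaDesc (P := @Flat) fun i => inferInstance
  haveI : Surjective σ := ⟨fun x => by
    obtain ⟨i, y, rfl⟩ := hc x
    exact ⟨Sigma.ι P i y, by rw [← Scheme.Hom.comp_apply, Sigma.ι_desc]⟩⟩
  haveI : QuasiCompact σ := inferInstance
  rw [← (Flat.isQuotientMap_of_surjective σ).isOpen_preimage]
  rw [isOpen_iff_forall_mem_open]
  intro z hz
  obtain ⟨i, y, rfl⟩ := (sigmaOpenCover P).exists_eq z
  refine ⟨Sigma.ι P i '' (g i ⁻¹' S), ?_, (Sigma.ι P i).isOpenEmbedding.isOpenMap _ (h i), y, ?_, rfl⟩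
  · rintro _ ⟨w, hw, rfl⟩
    show σ (Sigma.ι P i w) ∈ S
    rw [← Scheme.Hom.comp_apply, Sigma.ι_desc]
    exact hw
  · show g i y ∈ S
    have : σ (Sigma.ι P i y) ∈ S := hz
    rwa [← Scheme.Hom.comp_apply, Sigma.ι_desc] at this

theorem isOpen_hits {U : X.ProEt} {R : Sieve U} (hR : HasPieces R) : IsOpen (hits R) := by
  rw [isOpen_iff_forall_mem_open]
  intro x hx
  obtain ⟨O, hO, hxO, -⟩ := exists_isAffineOpen_mem_and_subset (U := (⊤ : U.left.Opens))
    (TopologicalSpace.Opens.mem_top x)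
  obtain ⟨ι, _, P, g, hP, hc, hpure⟩ := hR (show IsAffine (mkOpen U O).left from hO) (mkOpenHom U O)
  haveI : IsAffine (mkOpen U O).left := hO
  haveI : ∀ i, IsAffine (P i).left := hP
  have ho : IsOpen (O.ι ⁻¹' hits R) := by
    refine isOpen_of_preimage (A := (mkOpen U O).left) (fun i => (g i).left) hc fun i => ?_
    rcases preimage_hits (hpure i) with h | h
    · exact (congrArg IsOpen h).mpr isOpen_univ
    · exact (congrArg IsOpen h).mpr isOpen_empty
  exact ⟨O.ι '' (O.ι ⁻¹' hits R), Set.image_preimage_subset _ _, O.ι.isOpenEmbedding.isOpenMap _ ho,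
    ⟨x, hxO⟩, hx, rfl⟩

theorem mem_pullback_hits {U : X.ProEt} {R : Sieve U} (hR : HasPieces R) (O : U.left.Opens)
    (hO : (O : Set U.left) ⊆ hits R) :
    R.pullback (mkOpenHom U O) ∈ Scheme.ProEt.topology X (mkOpen U O) := by
  have hA : ∀ x : O.toScheme, ∃ A : O.toScheme.Opens, IsAffineOpen A ∧ x ∈ A := fun x => by
    obtain ⟨A, hA, hx, -⟩ := exists_isAffineOpen_mem_and_subset (U := (⊤ : O.toScheme.Opens))
      (TopologicalSpace.Opens.mem_top x)
    exact ⟨A, hA, hx⟩
  choose A hA hxA using hA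
  refine (Scheme.ProEt.topology X).transitive
    (ofArrows_mkOpenHom_mem (U := mkOpen U O) A (Set.eq_univ_of_forall fun x => Set.mem_iUnion.2 ⟨x, hxA x⟩)) _ ?_
  intro Z f hf
  obtain ⟨_, a, _, ⟨j⟩, rfl⟩ := hf
  haveI : IsAffine (mkOpen (mkOpen U O) (A j)).left := hA j
  let b : mkOpen (mkOpen U O) (A j) ⟶ U := mkOpenHom (mkOpen U O) (A j) ≫ mkOpenHom U O
  obtain ⟨ι, _, P, g, hP, hc, hpure⟩ := hR ‹_› b
  haveI : ∀ i, IsAffine (P i).left := hP
  let ι' : Type u := {i : ι // Nonempty (P i).left}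
  haveI : ∀ i : ι', IsAffine (P i.1).left := fun i => hP i.1
  haveI : ∀ i : ι', QuasiCompact (g i.1).left := fun i => inferInstance
  rw [Sieve.pullback_comp]
  refine (Scheme.ProEt.topology X).pullback_stable a ((Scheme.ProEt.topology X).superset_covering ?_
    (generate_ofArrows_mem_of_quasiCompact (fun i : ι' => P i.1) (fun i => g i.1) fun x => by
      obtain ⟨i, y, hy⟩ := hc x
      exact ⟨⟨i, ⟨y⟩⟩, y, hy⟩))
  rw [Sieve.generate_le_iff, Presieve.ofArrows_le_iff]
  rintro ⟨i, ⟨p⟩⟩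
  show R ((g i ≫ mkOpenHom (mkOpen U O) (A j)) ≫ mkOpenHom U O)
  rw [Category.assoc]
  refine mem_of_hit (hpure i) p (hO ?_)
  exact (((mkOpenHom (mkOpen U O) (A j)).left) ((g i).left p)).2

end Groth.L28.ProEt.LC
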