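import Groth.Agent.L28.ProEt.LC.Descend
import Mathlib.RingTheory.Finiteness.Cardinality
import Mathlib.Algebra.Module.FinitePresentation
import Mathlib.LinearAlgebra.Pi

/-!
Locally constant sheaves of finite presentation on the pro-étale site come from the étale site.
-/

set_option autoImplicit false
set_option linter.style.haveILetI false
set_option linter.unusedSectionVars false

universe u

open CategoryTheory CategoryTheory.Limits AlgebraicGeometry Opposite

set_option backward.isDefEq.respectTransparency.types false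

namespace Groth.L28.ProEt.LC

open Groth.L27.ProEt (mkOpen mkOpenHom)

variable {X : Scheme.{u}} {Λ : Type (u + 1)} [CommRing Λ] [ProEtS.EpsCont X]

theorem mem_eps_of_covers {ι : Type u} {U : ι → X.Etale} (hU : EtCoh.Covers U) (V : X.ProEt) :
    ∃ S ∈ Scheme.ProEt.topology X V, ∀ {Z : X.ProEt} (f : Z ⟶ V), S f →
      ∃ i, Nonempty (Z ⟶ (ProEtS.eps X).obj (U i)) := by
  let E : X.Etale := Scheme.Etale.mk (𝟙 X)
  let T : Sieve E := Sieve.ofArrows (X := E) U fun i => (MorphismProperty.Over.homMk (U i).hom (Category.comp_id _))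
  have hT : T ∈ X.smallEtaleTopology E := (Groth.L27.EtSite.mem_topology_iff _).2 fun x => by
    obtain ⟨i, y, hy⟩ := hU x
    exact ⟨U i, _, y, Sieve.ofArrows_mk U _ i, hy⟩
  let t : V ⟶ (ProEtS.eps X).obj E := MorphismProperty.Over.homMk V.hom (Category.comp_id _)
  refine ⟨_, (Scheme.ProEt.topology X).pullback_stable t ((L27.ProEt.coverPreserving_eps X).cover_preserve hT),
    fun {Z} f ⟨E', b, d, hb, _⟩ => ?_⟩
  obtain ⟨_, c, _, ⟨i⟩, -⟩ := hb
  exact ⟨i, ⟨d ≫ (ProEtS.eps X).map c⟩⟩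

theorem coversP_eps {ι : Type u} {U : ι → X.Etale} (hU : EtCoh.Covers U) :
    EtModW.CoversP fun i => (ProEtS.eps X).obj (U i) := by
  obtain ⟨S, hS, hS'⟩ := mem_eps_of_covers hU (ProEtS.topP X)
  refine (Scheme.ProEt.topology X).superset_covering (fun Z f hf => ?_) hS
  obtain ⟨i, ⟨d⟩⟩ := hS' f hf
  refine (Sieve.mem_ofArrows_iff _ _ _).2 ⟨i, d, MorphismProperty.Over.Hom.ext ?_⟩
  exact ((Category.comp_id f.left).symm.trans (MorphismProperty.Over.w f)).trans (MorphismProperty.Over.w d).symm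

theorem exists_hit {U : X.ProEt} {S : Sieve U} (hS : S ∈ Scheme.ProEt.topology X U) (x : U.left) :
    x ∈ hits S := by
  obtain ⟨O, hO, hxO, -⟩ := exists_isAffineOpen_mem_and_subset (U := (⊤ : U.left.Opens))
    (TopologicalSpace.Opens.mem_top x)
  haveI : IsAffine (mkOpen U O).left := hO
  obtain ⟨ι, -, V, g, -, hR, hc⟩ :=
    L27.ProEt.exists_affine_refinement ((Scheme.ProEt.topology X).pullback_stable (mkOpenHom U O) hS)
  obtain ⟨i, y, hy⟩ := hc (show (mkOpen U O).left from ⟨x, hxO⟩)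
  exact ⟨V i, g i ≫ mkOpenHom U O, y, hR i, congrArg (fun z : (mkOpen U O).left => (mkOpenHom U O).left z) hy⟩

/-- the étale object of an open of an étale object seen in the pro-étale site -/
noncomputable abbrev openEt (T : X.Etale) (O : T.left.Opens) : X.Etale := Cech.mkOpenEt T O

theorem exists_lift_open (T : X.Etale) (O : T.left.Opens) {W : X.ProEt} (r : W ⟶ (ProEtS.eps X).obj T)
    (h : ∀ w, r.left w ∈ O) :
    ∃ r' : W ⟶ (ProEtS.eps X).obj (openEt T O), r' ≫ (ProEtS.eps X).map (Cech.mkOpenEtHom T O) = r := by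
  let l : W.left ⟶ T.left := r.left
  let g : W.left ⟶ O.toScheme := IsOpenImmersion.lift O.ι l (by
    rintro _ ⟨w, rfl⟩
    rw [Scheme.Opens.range_ι]
    exact h w)
  have hg : g ≫ O.ι = l := IsOpenImmersion.lift_fac _ _ _
  refine ⟨MorphismProperty.Over.homMk g ?_, MorphismProperty.Over.Hom.ext hg⟩
  exact (Category.assoc _ _ _).symm.trans ((congrArg (fun k => k ≫ T.hom) hg).trans (MorphismProperty.Over.w r))

theorem mem_open_sieve {T : X.Etale} {R : Sieve ((ProEtS.eps X).obj T)} (hR : HasPieces R) (O : T.left.Opens)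
    (hO : (O : Set T.left) ⊆ hits R) :
    R.pullback ((ProEtS.eps X).map (Cech.mkOpenEtHom T O)) ∈
      Scheme.ProEt.topology X ((ProEtS.eps X).obj (openEt T O)) :=
  mem_pullback_hits hR O hO

variable {G : EtModW.ModP Λ X}

theorem exists_common_section (hG : LocTriv G) {W : X.ProEt} (hW : Cech.IsGood W) :
    ∀ {n : ℕ} (s : Fin n → Sec G W), ∃ (T : X.Etale) (r : W ⟶ (ProEtS.eps X).obj T)
      (s₀ : Fin n → Sec G ((ProEtS.eps X).obj T)), ∀ k, rs G r (s₀ k) = s k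
  | 0, s => by
    obtain ⟨U₀, -, r, -⟩ := hW
    exact ⟨U₀, r, fun k => k.elim0, fun k => k.elim0⟩
  | n + 1, s => by
    obtain ⟨T₁, r₁, s₁, h₁⟩ := exists_common_section hG hW (fun k : Fin n => s k.succ)
    obtain ⟨T₂, r₂, s₂, h₂⟩ := exists_stage_section hG hW (s 0)
    haveI := L27.ProEt.preservesFiniteLimits_eps X
    haveI : PreservesLimitsOfShape (Discrete WalkingPair) (ProEtS.eps X) :=
      PreservesFiniteLimits.preservesFiniteLimits _
    let hl := mapIsLimitOfPreservesOfIsLimit (ProEtS.eps X) prod.fst prod.snd (prodIsProd T₂ T₁)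
    let r := hl.lift (BinaryFan.mk r₂ r₁)
    refine ⟨prod T₂ T₁, r, Fin.cases (rs G ((ProEtS.eps X).map prod.fst) s₂)
      (fun k => rs G ((ProEtS.eps X).map prod.snd) (s₁ k)), fun k => ?_⟩
    induction k using Fin.cases with
    | zero =>
      simp only [Fin.cases_zero]
      rw [← rs_comp, ← h₂]
      exact congrArg (fun m => rs G m s₂) (hl.fac _ ⟨.left⟩)
    | succ k =>
      simp only [Fin.cases_succ]
      rw [← rs_comp, ← h₁ k]
      exact congrArg (fun m => rs G m (s₁ k)) (hl.fac _ ⟨.right⟩)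

theorem exists_etale_triv (hG : LocTriv G) {W : X.ProEt} (hW : Cech.IsGood W) {M : Type (u + 1)}
    [AddCommGroup M] [Module Λ M] [Module.FinitePresentation Λ M] {h : M →ₗ[Λ] Sec G W} (Hh : IsTriv G h)
    (w : W.left) :
    ∃ (U : X.Etale) (y : U.left), U.hom y = W.hom w ∧
      ∃ h₀ : M →ₗ[Λ] Sec G ((ProEtS.eps X).obj U), IsTriv G h₀ := by
  obtain ⟨n, m, f, g, hf, hex⟩ := Module.FinitePresentation.exists_fin' Λ M
  let b : Fin n → M := fun k => f (Pi.single k 1)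
  obtain ⟨T, r, s₀, hs⟩ := exists_common_section hG hW (fun k => h (b k))
  let L : (Fin n → Λ) →ₗ[Λ] Sec G ((ProEtS.eps X).obj T) := Fintype.linearCombination Λ s₀
  have hL : (rs G r).comp L = h.comp f := by
    refine LinearMap.pi_ext' fun k => LinearMap.ext_ring ?_
    show rs G r (L (Pi.single k 1)) = h (f (Pi.single k 1))
    rw [Fintype.linearCombination_apply_single, one_smul]
    exact hs k
  let t : Fin m → Sec G ((ProEtS.eps X).obj T) := fun i => L (g (Pi.single i 1))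
  have hr : ∀ i, rs G r (t i) = 0 := fun i =>
    (LinearMap.congr_fun hL (g (Pi.single i 1))).trans
      ((congrArg h (hex.apply_apply_eq_zero (Pi.single i 1))).trans (map_zero h))
  let O : T.left.Opens := ⟨hits (zeroSieve t), isOpen_hits (hasPieces_zero hG t)⟩
  obtain ⟨r', hr'⟩ := exists_lift_open T O r fun v => ⟨W, r, v, hr, rfl⟩
  let T₁ := openEt T O
  let ι₁ := (ProEtS.eps X).map (Cech.mkOpenEtHom T O)
  have ht : ∀ i, rs G ι₁ (t i) = 0 := fun i =>
    ext_of_mem G (mem_open_sieve (hasPieces_zero hG t) O subset_rfl) fun g hg => by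
      rw [← rs_comp, map_zero]; exact hg i
  let L₁ : (Fin n → Λ) →ₗ[Λ] Sec G ((ProEtS.eps X).obj T₁) := (rs G ι₁).comp L
  have hL₁ : LinearMap.ker f ≤ LinearMap.ker L₁ := by
    have e : L₁.comp g = 0 := LinearMap.pi_ext' fun i => LinearMap.ext_ring (ht i)
    intro v hv
    obtain ⟨z, rfl⟩ := (hex v).1 hv
    exact LinearMap.congr_fun e z
  let h₀ : M →ₗ[Λ] Sec G ((ProEtS.eps X).obj T₁) :=
    ((LinearMap.ker f).liftQ L₁ hL₁).comp (f.quotKerEquivOfSurjective hf).symm.toLinearMap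
  have h₀f : ∀ v, h₀ (f v) = L₁ v := fun v => by
    have : (f.quotKerEquivOfSurjective hf).symm (f v) = Submodule.Quotient.mk v :=
      (LinearEquiv.symm_apply_eq _).2 rfl
    show (LinearMap.ker f).liftQ L₁ hL₁ ((f.quotKerEquivOfSurjective hf).symm (f v)) = _
    rw [this]
    rfl
  have hres : res G r' h₀ = h := LinearMap.ext fun x => by
    obtain ⟨v, rfl⟩ := hf x
    show rs G r' (h₀ (f v)) = _
    rw [h₀f]
    show rs G r' (rs G ι₁ (L v)) = _
    rw [← rs_comp, hr']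
    exact LinearMap.congr_fun hL v
  let O₂ : T₁.left.Opens := ⟨hits (trivSieve h₀), isOpen_hits (hasPieces_triv hG h₀)⟩
  have hw : r'.left w ∈ O₂ := ⟨W, r', w, show IsTriv G (res G r' h₀) from hres.symm ▸ Hh, rfl⟩
  let ι₂ := (ProEtS.eps X).map (Cech.mkOpenEtHom T₁ O₂)
  refine ⟨openEt T₁ O₂, ⟨r'.left w, hw⟩, ?_, res G ι₂ h₀,
    IsTriv.of_cover (mem_open_sieve (hasPieces_triv hG h₀) O₂ subset_rfl) fun {V} g hg => ?_⟩
  · show T₁.hom (r'.left w) = _
    exact ((Scheme.Hom.comp_apply _ _ _).symm.trans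
      (congrArg (fun k : W.left ⟶ X => k w) (MorphismProperty.Over.w r')))
  · have e : res G g (res G ι₂ h₀) = res G (g ≫ ι₂) h₀ := LinearMap.ext fun x => (rs_comp G ι₂ g (h₀ x)).symm
    exact e ▸ hg

theorem isTriv_push (hG : LocTriv G) {U : X.Etale} {M : Type (u + 1)} [AddCommGroup M] [Module Λ M]
    {h : M →ₗ[Λ] Sec G ((ProEtS.eps X).obj U)} (H : IsTriv G h) :
    IsTriv ((epsPushMod Λ X).obj G) (U := U) h := by
  refine ⟨fun {V} g t => ?_, fun {V} g m hm => ?_⟩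
  · let T : Sieve V :=
      { arrows := fun Z k => ∃ m : M, rs ((epsPushMod Λ X).obj G) (k ≫ g) (h m) = rs ((epsPushMod Λ X).obj G) k t
        downward_closed := fun {Z Z'} k ⟨m, hm⟩ l => ⟨m, by rw [Category.assoc, rs_comp, hm, ← rs_comp]⟩ }
    refine ⟨T, (Groth.L27.EtSite.mem_topology_iff _).2 fun x => ?_, fun f hf => hf⟩
    obtain ⟨S, hS, hS'⟩ := H.exhaust ((ProEtS.eps X).map g) t
    obtain ⟨Z, z, q, hz, hq⟩ := exists_hit hS x
    obtain ⟨m, hm⟩ := hS' z hz
    let t' : Sec G ((ProEtS.eps X).obj V) := t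
    let d : Fin 1 → Sec G ((ProEtS.eps X).obj V) := fun _ => rs G ((ProEtS.eps X).map g) (h m) - t'
    have hd : rs G z (rs G ((ProEtS.eps X).map g) (h m) - t') = 0 := by
      rw [map_sub, ← rs_comp, sub_eq_zero]
      exact hm
    let O : V.left.Opens := ⟨hits (zeroSieve d), isOpen_hits (hasPieces_zero hG d)⟩
    have hxO : x ∈ O := ⟨Z, z, q, fun _ => hd, hq⟩
    let ιO := (ProEtS.eps X).map (Cech.mkOpenEtHom V O)
    have h1 : rs G ιO (rs G ((ProEtS.eps X).map g) (h m) - t') = 0 :=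
      ext_of_mem G (mem_open_sieve (hasPieces_zero hG d) O subset_rfl) fun k hk => by
        rw [← rs_comp, map_zero]
        exact hk 0
    rw [map_sub, sub_eq_zero, ← rs_comp] at h1
    refine ⟨openEt V O, Cech.mkOpenEtHom V O, ⟨x, hxO⟩, ⟨m, ?_⟩, rfl⟩
    refine Eq.trans (b := rs G ((ProEtS.eps X).map (Cech.mkOpenEtHom V O ≫ g)) (h m)) rfl ?_
    rw [Functor.map_comp]
    exact h1
  · exact (H.ker ((ProEtS.eps X).map g) m hm).imp id fun h0 => bot_et_of_isEmpty (isEmpty_of_bot h0)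

theorem counit_triv {U : X.Etale} {M : Type (u + 1)} [AddCommGroup M] [Module Λ M]
    (h : M →ₗ[Λ] Sec G ((ProEtS.eps X).obj U)) :
    ((((epsAdjMod Λ X).counit.app G).hom.app (op ((ProEtS.eps X).obj U))).hom.comp
      ((eta ((epsPushMod Λ X).obj G) U).comp h)) = h :=
  LinearMap.ext fun m => congrArg (fun k : (epsPushMod Λ X).obj G ⟶ (epsPushMod Λ X).obj G => k.hom.app (op U) (h m))
    ((epsAdjMod Λ X).right_triangle_components G)

theorem isFPLocConstP_epsPull (F : EtModW.Mod Λ X) (hF : EtModW.IsFPLocConst Λ F) :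
    EtModW.IsFPLocConstP Λ ((EtModW.epsPullMod Λ X).obj F) := by
  obtain ⟨ι, U, hU, hM⟩ := hF
  refine ⟨ι, fun i => (ProEtS.eps X).obj (U i), coversP_eps hU, fun i => ?_⟩
  obtain ⟨M, hg, hm, hfp, ⟨e⟩⟩ := hM i
  obtain ⟨h, H⟩ := exists_triv_of_iso e
  exact ⟨M, hg, hm, hfp, ⟨H.eps.iso⟩⟩

theorem exists_fp_etale (G : EtModW.ModP Λ X) (hG : EtModW.IsFPLocConstP Λ G) :
    ∃ F : EtModW.Mod Λ X, EtModW.IsFPLocConst Λ F ∧ Nonempty ((EtModW.epsPullMod Λ X).obj F ≅ G) := by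
  obtain ⟨κ, P, hP, hM⟩ := hG
  have hloc : ∀ V : X.ProEt, ∃ S ∈ Scheme.ProEt.topology X V, ∀ {Z : X.ProEt} (f : Z ⟶ V), S f →
      ∃ i, Nonempty (Z ⟶ P i) := fun V => by
    let t : V ⟶ ProEtS.topP X := MorphismProperty.Over.homMk V.hom (Category.comp_id _)
    refine ⟨_, (Scheme.ProEt.topology X).pullback_stable t hP, fun f hf => ?_⟩
    obtain ⟨i, a, -⟩ := (Sieve.mem_ofArrows_iff _ _ _).1 hf
    exact ⟨i, ⟨a⟩⟩
  have htriv : ∀ i, ∃ (M : Type (u + 1)) (_ : AddCommGroup M) (_ : Module Λ M) (_ : Module.FinitePresentation Λ M)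
      (h : M →ₗ[Λ] Sec G (P i)), IsTriv G h := fun i => by
    obtain ⟨M, hg, hm, hfp, ⟨e⟩⟩ := hM i
    obtain ⟨h, H⟩ := exists_triv_of_iso e
    exact ⟨M, hg, hm, hfp, h, H⟩
  choose M hg hm hfp h H using htriv
  have hLT : LocTriv G := fun V => by
    obtain ⟨S, hS, hS'⟩ := hloc V
    refine ⟨S, hS, fun f hf => ?_⟩
    obtain ⟨i, ⟨a⟩⟩ := hS' f hf
    exact ⟨M i, hg i, hm i, inferInstance, res G a (h i), (H i).restrict a⟩
  have hpt : ∀ x : X, ∃ (U : X.Etale) (y : U.left), U.hom y = x ∧ ∃ (i : κ)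
      (h₀ : M i →ₗ[Λ] Sec G ((ProEtS.eps X).obj U)), IsTriv G h₀ := fun x => by
    obtain ⟨Z, z, q, hz, hq⟩ := exists_hit hP (show (ProEtS.topP X).left from x)
    obtain ⟨i, a, -⟩ := (Sieve.mem_ofArrows_iff _ _ _).1 hz
    obtain ⟨W, b, w, ⟨W', c, d, hW, rfl⟩, hw⟩ := exists_hit (Cech.goodSieve_mem Z) q
    haveI := hfp i
    obtain ⟨U, y, hy, h₀, H₀⟩ := exists_etale_triv hLT hW ((H i).restrict (d ≫ a)) (c.left w)
    refine ⟨U, y, hy.trans ?_, i, h₀, H₀⟩
    have e₁ : Z.hom q = x := by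
      refine ((Scheme.Hom.comp_apply _ _ _).trans ?_ : (z.left ≫ (ProEtS.topP X).hom) q = x) |> fun e =>
        (congrArg (fun k : Z.left ⟶ X => k q) (MorphismProperty.Over.w z)).symm.trans e
      exact hq
    rw [← e₁, ← hw]
    refine Eq.trans ?_ (Scheme.Hom.comp_apply _ _ _)
    refine Eq.trans ?_ (congrArg (fun k : W.left ⟶ X => k w) (MorphismProperty.Over.w (c ≫ d))).symm
    exact ((Scheme.Hom.comp_apply _ _ _).symm.trans
      (congrArg (fun k : W.left ⟶ X => k w) (MorphismProperty.Over.w c)))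
  choose U y hy i h₀ H₀ using hpt
  have hU : EtCoh.Covers U := fun x => ⟨x, y x, hy x⟩
  have hpush := fun x => isTriv_push hLT (H₀ x)
  refine ⟨(epsPushMod Λ X).obj G, ⟨X, U, hU, fun x => ⟨M (i x), hg _, hm _, hfp _, ⟨(hpush x).iso⟩⟩⟩, ?_⟩
  haveI : IsIso ((epsAdjMod Λ X).counit.app G) := isIso_of_triv _ fun V => by
    obtain ⟨S, hS, hS'⟩ := mem_eps_of_covers hU V
    refine ⟨S, hS, fun {Z} f hf => ?_⟩
    obtain ⟨x, ⟨a⟩⟩ := hS' f hf
    exact ⟨_, M (i x), hg _, hm _, _, a, (hpush x).eps, (counit_triv (h₀ x)).symm ▸ H₀ x⟩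
  exact ⟨asIso ((epsAdjMod Λ X).counit.app G)⟩

end Groth.L28.ProEt.LC
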