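import Groth.Agent.L28.ProEt.LC.Locus
import Mathlib.RingTheory.Finiteness.Basic

/-!
Pieces on which a locally constant sheaf and finitely many of its sections are trivial.
-/

set_option autoImplicit false
set_option linter.style.haveILetI false
set_option linter.unusedSectionVars false

universe u

open CategoryTheory CategoryTheory.Limits AlgebraicGeometry Opposite

set_option backward.isDefEq.respectTransparency.types false

namespace Groth.L28.ProEt.LC

open Groth.L27.ProEt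

variable {X : Scheme.{u}} {Λ : Type (u + 1)} [CommRing Λ]

theorem isEmpty_of_bot {U : X.ProEt} (h : (⊥ : Sieve U) ∈ Scheme.ProEt.topology X U) : IsEmpty U.left := by
  refine ⟨fun x => ?_⟩
  obtain ⟨O, hO, hxO, -⟩ := exists_isAffineOpen_mem_and_subset (U := (⊤ : U.left.Opens))
    (TopologicalSpace.Opens.mem_top x)
  haveI : IsAffine (mkOpen U O).left := hO
  obtain ⟨ι, -, V, g, -, hR, hc⟩ :=
    exists_affine_refinement ((Scheme.ProEt.topology X).pullback_stable (mkOpenHom U O) h)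
  obtain ⟨i, -, -⟩ := hc (show (mkOpen U O).left from ⟨x, hxO⟩)
  exact False.elim (hR i)

theorem not_bot {U : X.ProEt} (h : Nonempty U.left) : (⊥ : Sieve U) ∉ Scheme.ProEt.topology X U :=
  fun hb => (isEmpty_of_bot hb).false h.some

theorem bot_of_isEmpty {U : X.ProEt} (h : IsEmpty U.left) : (⊥ : Sieve U) ∈ Scheme.ProEt.topology X U :=
  Scheme.ProEt.bot_mem_topology U

/-- locally, the sheaf has a trivialisation by a finite module -/
def LocTriv (G : EtModW.ModP Λ X) : Prop :=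
  ∀ U : X.ProEt, ∃ S ∈ Scheme.ProEt.topology X U, ∀ {V : X.ProEt} (f : V ⟶ U), S f →
    ∃ (M : Type (u + 1)) (_ : AddCommGroup M) (_ : Module Λ M) (_ : Module.Finite Λ M)
      (h : M →ₗ[Λ] Sec G V), IsTriv G h

variable {G : EtModW.ModP Λ X}

theorem exists_pieces (hG : LocTriv G) {A : X.ProEt} [IsAffine A.left] {n : ℕ} (t : Fin n → Sec G A) :
    ∃ (ι : Type u) (_ : Finite ι) (P : ι → X.ProEt) (g : ∀ i, P i ⟶ A),
      (∀ i, IsAffine (P i).left) ∧ (∀ x : A.left, ∃ i y, (g i).left y = x) ∧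
        ∀ i, ∃ (M : Type (u + 1)) (_ : AddCommGroup M) (_ : Module Λ M) (_ : Module.Finite Λ M)
          (h : M →ₗ[Λ] Sec G (P i)), IsTriv G h ∧ ∀ k, ∃ m, h m = rs G (g i) (t k) := by
  classical
  obtain ⟨S, hS, hS'⟩ := hG A
  obtain ⟨ι, hι, V, g, hV, hg, hc⟩ := exists_affine_refinement hS
  have hW : ∀ i, ∃ (W : X.ProEt) (p : W ⟶ V i), IsAffine W.left ∧ Surjective p.left ∧
      EtPBC.IsWContractible ↥(Γ(W.left, ⊤)) := fun i => by
    haveI := hV i
    exact exists_affine_wContractible_over (V i)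
  choose W p hWa hps hWc using hW
  have hT : ∀ i, ∃ (m : ℕ) (O : Fin m → (W i).left.Opens), (∀ l, IsClopen (O l : Set (W i).left)) ∧
      (⋃ l, (O l : Set (W i).left)) = Set.univ ∧
      ∀ l, ∃ (M : Type (u + 1)) (_ : AddCommGroup M) (_ : Module Λ M) (_ : Module.Finite Λ M)
          (h : M →ₗ[Λ] Sec G (mkOpen (W i) (O l))), IsTriv G h ∧
            ∀ k, ∃ m, h m = rs G (mkOpenHom (W i) (O l) ≫ p i ≫ g i) (t k) := by
    intro i
    obtain ⟨M, _, _, _, h, Hh⟩ := hS' (p i ≫ g i) (S.downward_closed (hg i) (p i))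
    choose T hT hT' using fun k => Hh.exhaust (𝟙 (W i)) (rs G (p i ≫ g i) (t k))
    have hR : Finset.univ.inf T ∈ Scheme.ProEt.topology X (W i) :=
      Finset.inf_induction (p := fun R => R ∈ Scheme.ProEt.topology X (W i))
        ((Scheme.ProEt.topology X).top_mem _)
        (fun a ha b hb => (Scheme.ProEt.topology X).intersection_covering ha hb) fun k _ => hT k
    haveI := hWa i
    obtain ⟨m, O, hO, -, hOc, hOR⟩ := exists_refinement (hWc i) hR
    refine ⟨m, O, hO, hOc, fun l => ⟨M, _, _, ‹_›, _, Hh.restrict (mkOpenHom (W i) (O l)), fun k => ?_⟩⟩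
    obtain ⟨m₀, hm⟩ := hT' k (mkOpenHom (W i) (O l))
      ((Finset.inf_le (Finset.mem_univ k) : Finset.univ.inf T ≤ T k) _ (hOR l))
    refine ⟨m₀, ?_⟩
    rw [rs_comp, LinearMap.comp_apply, ← hm, Category.comp_id]
  choose m O hO hOc hM using hT
  haveI : Finite ι := hι
  refine ⟨Σ i, ULift.{u} (Fin (m i)), inferInstance, fun a => mkOpen (W a.1) (O a.1 a.2.down),
    fun a => mkOpenHom (W a.1) (O a.1 a.2.down) ≫ p a.1 ≫ g a.1, fun a => ?_, fun x => ?_,
    fun a => hM a.1 a.2.down⟩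
  · haveI := hWa a.1
    let q : (mkOpen (W a.1) (O a.1 a.2.down)).left ⟶ (W a.1).left := (O a.1 a.2.down).ι
    haveI : IsClosedImmersion q := .of_isPreimmersion (O a.1 a.2.down).ι
      (by rw [Scheme.Opens.range_ι]; exact (hO _ _).isClosed)
    exact isAffine_of_isAffineHom q
  · obtain ⟨i, v, hv⟩ := hc x
    obtain ⟨w, hw⟩ := (hps i).1 v
    obtain ⟨l, hl⟩ := Set.mem_iUnion.1 ((hOc i).ge (Set.mem_univ w))
    refine ⟨⟨i, ⟨l⟩⟩, ⟨w, hl⟩, ?_⟩
    show (g i).left ((p i).left w) = x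
    rw [hw, hv]

/-- maps on which finitely many sections vanish -/
def zeroSieve {U : X.ProEt} {n : ℕ} (t : Fin n → Sec G U) : Sieve U where
  arrows _ f := ∀ k, rs G f (t k) = 0
  downward_closed {Y Z f} hf g k := by rw [rs_comp, hf k, map_zero]

theorem hasPieces_zero (hG : LocTriv G) {U : X.ProEt} {n : ℕ} (t : Fin n → Sec G U) :
    HasPieces (zeroSieve t) := by
  intro A hA a
  obtain ⟨ι, hι, P, g, hP, hc, hM⟩ := exists_pieces hG (A := A) fun k => rs G a (t k)
  refine ⟨ι, hι, P, g, hP, hc, fun i Z z hZ hz k => ?_⟩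
  obtain ⟨M, _, _, _, h, Hh, hm⟩ := hM i
  obtain ⟨m, hm⟩ := hm k
  rw [rs_comp, ← hm]
  rcases Hh.ker z m (by rw [hm, ← rs_comp, ← rs_comp, Category.assoc]; exact hz k) with h0 | h0
  · rw [h0, map_zero]
  · exact absurd h0 (not_bot hZ)

variable {M : Type (u + 1)} [AddCommGroup M] [Module Λ M]

/-- maps on which a family of sections is a trivialisation -/
def trivSieve {U : X.ProEt} (h : M →ₗ[Λ] Sec G U) : Sieve U where
  arrows _ f := IsTriv G (res G f h)
  downward_closed {Y Z f} hf g := by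
    have e : res G g (res G f h) = res G (g ≫ f) h := LinearMap.ext fun m => (rs_comp G f g (h m)).symm
    exact e ▸ hf.restrict g

theorem hasPieces_triv [Module.Finite Λ M] (hG : LocTriv G) {U : X.ProEt} (h : M →ₗ[Λ] Sec G U) :
    HasPieces (trivSieve h) := by
  intro A hA a
  obtain ⟨n, b, hb⟩ := Module.Finite.exists_fin (R := Λ) (M := M)
  obtain ⟨ι, hι, P, g, hP, hc, hM⟩ := exists_pieces hG (A := A) fun k => rs G a (h (b k))
  refine ⟨ι, hι, P, g, hP, hc, fun i Z z hZ hz => ?_⟩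
  obtain ⟨M', _, _, _, h', Hh', hm⟩ := hM i
  have hPne : Nonempty (P i).left := hZ.map z.left
  have hinj := Hh'.injective (not_bot hPne)
  have hrange : LinearMap.range (res G (g i ≫ a) h) ≤ LinearMap.range h' := by
    rw [LinearMap.range_eq_map, ← hb, Submodule.map_span, Submodule.span_le]
    rintro _ ⟨_, ⟨k, rfl⟩, rfl⟩
    obtain ⟨m, hm⟩ := hm k
    exact ⟨m, hm.trans (rs_comp G a (g i) (h (b k))).symm⟩
  let φ : M →ₗ[Λ] M' := (LinearEquiv.ofInjective h' hinj).symm.toLinearMap ∘ₗ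
    (res G (g i ≫ a) h).codRestrict _ fun x => hrange ⟨x, rfl⟩
  have hφ : h'.comp φ = res G (g i ≫ a) h := LinearMap.ext fun x =>
    congrArg Subtype.val ((LinearEquiv.ofInjective h' hinj).apply_symm_apply
      ⟨res G (g i ≫ a) h x, hrange ⟨x, rfl⟩⟩)
  have e : res G z (res G (g i ≫ a) h) = res G (z ≫ g i ≫ a) h :=
    LinearMap.ext fun x => (rs_comp G (g i ≫ a) z (h x)).symm
  have hz' : IsTriv G (res G z (res G (g i ≫ a) h)) := e ▸ hz
  have hg := bijective_of_triv φ hz' (Hh'.restrict z)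
    (by rw [← hφ]; rfl) (not_bot hZ)
  show IsTriv G (res G (g i ≫ a) h)
  rw [← hφ]
  exact Hh'.comp_bijective φ hg

end Groth.L28.ProEt.LC
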