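import Groth.Agent.L28.LocConst.Basic
import Mathlib.Algebra.Category.ModuleCat.Limits
import Mathlib.CategoryTheory.Sites.LocallyBijective
import Mathlib.CategoryTheory.Sites.Over

/-!
Trivialisations of sheaves of modules by a family of sections: a linear map `h : M →ₗ G(U)` which exhausts the
sections locally and is injective over every object not covered by the empty sieve.
-/

set_option autoImplicit false
set_option linter.style.haveILetI false
set_option linter.unusedSectionVars false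

universe u

open CategoryTheory CategoryTheory.Limits Opposite

set_option backward.isDefEq.respectTransparency.types false

namespace Groth.L28.ProEt.LC

variable {Λ : Type (u + 1)} [CommRing Λ] {C : Type (u + 1)} [Category.{u} C] {J : GrothendieckTopology C}

/-- sheaves of modules -/
abbrev Sh (J : GrothendieckTopology C) (Λ : Type (u + 1)) [CommRing Λ] := Sheaf J (ModuleCat.{u + 1} Λ)

variable (G : Sh J Λ)

/-- sections -/
abbrev Sec (U : C) : Type (u + 1) := ↑(G.obj.obj (op U))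

/-- restriction of sections -/
noncomputable abbrev rs {U V : C} (g : V ⟶ U) : Sec G U →ₗ[Λ] Sec G V := (G.obj.map g.op).hom

theorem rs_comp {U V W : C} (g : V ⟶ U) (f : W ⟶ V) (x : Sec G U) : rs G (f ≫ g) x = rs G f (rs G g x) := by
  show (G.obj.map (g.op ≫ f.op)).hom x = _
  rw [G.obj.map_comp]
  rfl

theorem rs_id {U : C} (x : Sec G U) : rs G (𝟙 U) x = x := by
  show (G.obj.map (𝟙 (op U))).hom x = _
  rw [G.obj.map_id]
  rfl

theorem ext_of_mem {U : C} {S : Sieve U} (hS : S ∈ J U) {x y : Sec G U}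
    (h : ∀ {V : C} (g : V ⟶ U), S g → rs G g x = rs G g y) : x = y :=
  (((isSheaf_iff_isSheaf_of_type _ _).mp
    (Presheaf.isSheaf_comp_of_isSheaf J G.obj (forget (ModuleCat.{u + 1} Λ)) G.property)).isSeparated S hS).ext
      fun _ g hg => h g hg

theorem eq_of_bot {U : C} (h : (⊥ : Sieve U) ∈ J U) (x y : Sec G U) : x = y :=
  ext_of_mem G h fun _ hg => False.elim hg

theorem bot_of_map {U V : C} (g : V ⟶ U) (h : (⊥ : Sieve U) ∈ J U) : (⊥ : Sieve V) ∈ J V :=
  J.superset_covering (fun _ _ hf => False.elim hf) (J.pullback_stable g h)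

theorem bot_of_cover {U : C} {S : Sieve U} (hS : S ∈ J U)
    (h : ∀ {V : C} (g : V ⟶ U), S g → (⊥ : Sieve V) ∈ J V) : (⊥ : Sieve U) ∈ J U :=
  J.transitive hS ⊥ fun _ g hg => J.superset_covering (fun _ _ hf => False.elim hf) (h g hg)

variable {M : Type (u + 1)} [AddCommGroup M] [Module Λ M]

/-- the restriction of a family of sections -/
noncomputable abbrev res {U V : C} (g : V ⟶ U) (h : M →ₗ[Λ] Sec G U) : M →ₗ[Λ] Sec G V := (rs G g).comp h

/-- `h` trivialises `G` over `U` -/
structure IsTriv {U : C} (h : M →ₗ[Λ] Sec G U) : Prop where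
  exhaust : ∀ {V : C} (g : V ⟶ U) (t : Sec G V),
    ∃ S ∈ J V, ∀ {Z : C} (f : Z ⟶ V), S f → ∃ m : M, rs G (f ≫ g) (h m) = rs G f t
  ker : ∀ {V : C} (g : V ⟶ U) (m : M), rs G g (h m) = 0 → m = 0 ∨ (⊥ : Sieve V) ∈ J V

variable {G} {U : C} {h : M →ₗ[Λ] Sec G U}

theorem IsTriv.restrict (H : IsTriv G h) {V : C} (g : V ⟶ U) : IsTriv G (res G g h) where
  exhaust {W} f t := by
    obtain ⟨S, hS, hS'⟩ := H.exhaust (f ≫ g) t
    refine ⟨S, hS, fun {Z} k hk => ?_⟩
    obtain ⟨m, hm⟩ := hS' k hk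
    refine ⟨m, ?_⟩
    rw [← hm, LinearMap.comp_apply, ← rs_comp, Category.assoc]
  ker {W} f m hm := H.ker (f ≫ g) m (by rw [rs_comp]; exact hm)

theorem IsTriv.of_cover {S : Sieve U} (hS : S ∈ J U)
    (H : ∀ {V : C} (g : V ⟶ U), S g → IsTriv G (res G g h)) : IsTriv G h where
  exhaust {W} f t := by
    let T : Sieve W :=
      { arrows := fun Z k => ∃ m : M, rs G (k ≫ f) (h m) = rs G k t
        downward_closed := fun {Z Z'} k ⟨m, hm⟩ l => ⟨m, by rw [Category.assoc, rs_comp, hm, ← rs_comp]⟩ }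
    refine ⟨T, J.transitive (J.pullback_stable f hS) T fun Z k hk => ?_, fun _ hk => hk⟩
    obtain ⟨S', hS', hS''⟩ := (H (k ≫ f) hk).exhaust (𝟙 Z) (rs G k t)
    refine J.superset_covering (fun Z' l hl => ?_) hS'
    obtain ⟨m, hm⟩ := hS'' l hl
    refine ⟨m, ?_⟩
    rw [rs_comp G k l, ← hm, Category.comp_id, LinearMap.comp_apply, ← rs_comp, Category.assoc]
  ker {W} f m hm := by
    by_cases h0 : m = 0
    · exact Or.inl h0
    · refine Or.inr (bot_of_cover (J.pullback_stable f hS) fun {Z} k hk => ?_)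
      refine ((H (k ≫ f) hk).ker (𝟙 Z) m ?_).resolve_left h0
      rw [rs_id, LinearMap.comp_apply, rs_comp, hm, map_zero]

theorem IsTriv.injective (H : IsTriv G h) (hU : (⊥ : Sieve U) ∉ J U) : Function.Injective h := by
  refine (injective_iff_map_eq_zero h).2 fun m hm => (H.ker (𝟙 U) m ?_).resolve_right hU
  rw [rs_id]; exact hm

theorem IsTriv.of_isIso {G' : Sh J Λ} (φ : G ⟶ G') [IsIso φ] (H : IsTriv G h) :
    IsTriv G' ((φ.hom.app (op U)).hom.comp h) := by
  haveI : IsIso φ.hom := inferInstanceAs (IsIso ((sheafToPresheaf _ _).map φ))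
  have hb : ∀ V : C, Function.Bijective (φ.hom.app (op V)) := fun V => ConcreteCategory.bijective_of_isIso _
  have hn : ∀ {V V' : C} (g : V' ⟶ V) (x : Sec G V),
      rs G' g (φ.hom.app (op V) x) = φ.hom.app (op V') (rs G g x) :=
    fun g x => (NatTrans.naturality_apply φ.hom g.op x).symm
  refine ⟨fun {V} g t => ?_, fun {V} g m hm => H.ker g m ((hb V).1 ?_)⟩
  · obtain ⟨t, rfl⟩ := (hb V).2 t
    obtain ⟨S, hS, hS'⟩ := H.exhaust g t
    refine ⟨S, hS, fun {Z} f hf => ?_⟩
    obtain ⟨m, hm⟩ := hS' f hf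
    refine ⟨m, ?_⟩
    rw [hn, ← hm]
    exact hn _ _
  · exact ((hn g (h m)).symm.trans hm).trans (map_zero (φ.hom.app (op V)).hom).symm

variable {M' : Type (u + 1)} [AddCommGroup M'] [Module Λ M'] {h' : M' →ₗ[Λ] Sec G U}

theorem bijective_of_triv (g : M →ₗ[Λ] M') (H : IsTriv G h) (H' : IsTriv G h') (e : h'.comp g = h)
    (hU : (⊥ : Sieve U) ∉ J U) : Function.Bijective g := by
  refine ⟨Function.Injective.of_comp (f := h') ?_, fun m' => ?_⟩
  · rw [← LinearMap.coe_comp, e]; exact H.injective hU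
  · obtain ⟨S, hS, hS'⟩ := H.exhaust (𝟙 U) (h' m')
    by_contra hne
    push Not at hne
    refine hU (bot_of_cover hS fun {Z} f hf => ?_)
    obtain ⟨m, hm⟩ := hS' f hf
    refine (H'.ker f (g m - m') ?_).resolve_left (sub_ne_zero.2 (hne m))
    rw [map_sub, map_sub, ← hm, Category.comp_id, ← e]
    exact sub_self _

theorem IsTriv.comp_bijective (g : M →ₗ[Λ] M') (hg : Function.Bijective g) (H' : IsTriv G h') :
    IsTriv G (h'.comp g) where
  exhaust {V} f t := by
    obtain ⟨S, hS, hS'⟩ := H'.exhaust f t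
    refine ⟨S, hS, fun {Z} k hk => ?_⟩
    obtain ⟨m', hm⟩ := hS' k hk
    obtain ⟨m, rfl⟩ := hg.2 m'
    exact ⟨m, hm⟩
  ker {V} f m hm := (H'.ker f (g m) hm).imp (fun h => hg.1 (h.trans (map_zero g).symm)) id

section Bot

variable {G₂ : Sh J Λ} (φ : G ⟶ G₂) {h₂ : M →ₗ[Λ] Sec G₂ U}

theorem isIso_of_triv (hcov : ∀ V : C, ∃ S ∈ J V, ∀ {Z : C} (f : Z ⟶ V), S f →
      ∃ (U : C) (M : Type (u + 1)) (_ : AddCommGroup M) (_ : Module Λ M) (h : M →ₗ[Λ] Sec G U) (_ : Z ⟶ U),
        IsTriv G h ∧ IsTriv G₂ ((φ.hom.app (op U)).hom.comp h))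
    [J.WEqualsLocallyBijective (ModuleCat.{u + 1} Λ)] : IsIso φ := by
  have hn : ∀ {V V' : C} (g : V' ⟶ V) (x : Sec G V),
      rs G₂ g (φ.hom.app (op V) x) = φ.hom.app (op V') (rs G g x) :=
    fun g x => (NatTrans.naturality_apply φ.hom g.op x).symm
  refine (Sheaf.isLocallyBijective_iff_isIso φ).1 ⟨⟨fun {W} x y hxy => ?_⟩, ⟨fun {W} y => ?_⟩⟩
  · obtain ⟨S, hS, hS'⟩ := hcov W.unop
    refine J.transitive hS _ fun Z f hf => ?_
    obtain ⟨U', M', _, _, k, c, Hk, Hk₂⟩ := hS' f hf
    obtain ⟨T, hT, hT'⟩ := Hk.exhaust c (rs G f (x - y))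
    refine J.transitive hT _ fun Z' l hl => ?_
    obtain ⟨m, hm⟩ := hT' l hl
    have h0 : rs G₂ (l ≫ c) (φ.hom.app (op U') (k m)) = 0 := by
      rw [hn, hm, ← rs_comp, ← hn, map_sub]
      exact (congrArg _ (sub_eq_zero.2 hxy)).trans (map_zero _)
    have h1 : rs G (l ≫ f) (x - y) = 0 ∨ (⊥ : Sieve Z') ∈ J Z' := by
      refine (Hk₂.ker (l ≫ c) m h0).imp (fun h => ?_) id
      rw [rs_comp, ← hm, h, map_zero, map_zero]
    have h2 : rs G (l ≫ f) x = rs G (l ≫ f) y := by
      rcases h1 with h1 | h1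
      · rw [← sub_eq_zero, ← map_sub]; exact h1
      · exact eq_of_bot G h1 _ _
    exact J.superset_covering (fun Z'' a _ => by
      show rs G ((a ≫ l) ≫ f) x = rs G ((a ≫ l) ≫ f) y
      rw [Category.assoc, rs_comp, rs_comp G (l ≫ f) a, h2]) (J.top_mem Z')
  · obtain ⟨S, hS, hS'⟩ := hcov W
    refine J.transitive hS _ fun Z f hf => ?_
    obtain ⟨U', M', _, _, k, c, Hk, Hk₂⟩ := hS' f hf
    obtain ⟨T, hT, hT'⟩ := Hk₂.exhaust c (rs G₂ f y)
    refine J.superset_covering (fun Z' l hl => ?_) hT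
    obtain ⟨m, hm⟩ := hT' l hl
    refine ⟨rs G (l ≫ c) (k m), ?_⟩
    exact ((hn _ _).symm.trans hm).trans (rs_comp G₂ f l y).symm

end Bot

section Const

variable {U : C} [HasWeakSheafify (J.over U) (ModuleCat.{u + 1} Λ)]
  [(J.over U).WEqualsLocallyBijective (ModuleCat.{u + 1} Λ)]

/-- the map to the terminal object of the localised site -/
abbrev toU (V : Over U) : V ⟶ Over.mk (𝟙 U) := Over.homMk V.hom (Category.comp_id V.hom)

/-- the morphism from the constant sheaf defined by `h` -/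
noncomputable def constMap (h : M →ₗ[Λ] Sec G U) :
    (constantSheaf (J.over U) (ModuleCat.{u + 1} Λ)).obj (ModuleCat.of Λ M) ⟶ G.over U :=
  ObjectProperty.homMk (CategoryTheory.sheafifyLift (J.over U)
    ({ app := fun V => ModuleCat.ofHom (res G V.unop.hom h)
       naturality := fun V V' f => by
        refine ModuleCat.hom_ext (LinearMap.ext fun m => ?_)
        show rs G V'.unop.hom (h m) = rs G f.unop.left (rs G V.unop.hom (h m))
        rw [← rs_comp, Over.w] } :
      (Functor.const (Over U)ᵒᵖ).obj (ModuleCat.of Λ M) ⟶ (G.over U).obj) (G.over U).2)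

theorem constMap_cs (h : M →ₗ[Λ] Sec G U) (V : Over U) (m : M) :
    (constMap h).hom.app (op V) (LocConst.cs (J.over U) (ModuleCat.of Λ M) V m) = rs G V.hom (h m) :=
  ConcreteCategory.congr_hom (congrArg (fun k : (Functor.const (Over U)ᵒᵖ).obj (ModuleCat.of Λ M) ⟶ (G.over U).obj =>
    k.app (op V)) (CategoryTheory.toSheafify_sheafifyLift (J.over U) _ (G.over U).2)) m

theorem IsTriv.isIso_constMap {h : M →ₗ[Λ] Sec G U} (H : IsTriv G h) : IsIso (constMap h) := by
  refine (Sheaf.isLocallyBijective_iff_isIso _).1 ⟨⟨fun {W} x y hxy => ?_⟩, ⟨fun {W} y => ?_⟩⟩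
  · let K := J.over U
    let η := toSheafify K ((Functor.const (Over U)ᵒᵖ).obj (ModuleCat.of Λ M))
    refine K.transitive (K.intersection_covering (Presheaf.imageSieve_mem K η x) (Presheaf.imageSieve_mem K η y)) _
      fun Z f ⟨⟨a, ha⟩, ⟨b, hb⟩⟩ => ?_
    have h0 : rs G Z.hom (h (a - b)) = 0 := by
      rw [map_sub, map_sub, sub_eq_zero, ← constMap_cs, ← constMap_cs]
      refine (congrArg _ ha).trans ((NatTrans.naturality_apply (constMap h).hom f.op x).trans ?_)
      refine (congrArg _ hxy).trans ((NatTrans.naturality_apply (constMap h).hom f.op y).symm.trans ?_)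
      exact (congrArg _ hb).symm
    rcases H.ker Z.hom (a - b) h0 with h1 | h1
    · refine K.superset_covering (fun Z' g _ => ?_) (K.top_mem Z)
      obtain rfl := sub_eq_zero.1 h1
      show _ = _
      rw [op_comp, Functor.map_comp, ConcreteCategory.comp_apply, ConcreteCategory.comp_apply]
      exact congrArg _ (ha.symm.trans hb)
    · exact K.superset_covering (fun _ _ hg => False.elim hg)
        ((J.mem_over_iff _).2 (J.superset_covering (fun _ _ hg => False.elim hg) h1) : (⊥ : Sieve Z) ∈ K Z)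
  · obtain ⟨S, hS, hS'⟩ := H.exhaust W.hom y
    refine (J.over U).superset_covering (fun Z f hf => ?_) ((J.mem_over_iff ((Sieve.overEquiv W).symm S)).2 (by
      rw [OrderIso.apply_symm_apply]; exact hS))
    obtain ⟨m, hm⟩ := hS' f.left hf
    refine ⟨LocConst.cs (J.over U) (ModuleCat.of Λ M) Z m, (constMap_cs h Z m).trans ?_⟩
    rw [← Over.w f]
    exact hm

/-- a trivialisation gives a constant sheaf -/
noncomputable def IsTriv.iso {h : M →ₗ[Λ] Sec G U} (H : IsTriv G h) :
    G.over U ≅ (constantSheaf (J.over U) (ModuleCat.{u + 1} Λ)).obj (ModuleCat.of Λ M) :=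
  haveI := H.isIso_constMap
  (asIso (constMap h)).symm

/-- a constant sheaf gives a trivialisation -/
theorem exists_triv_of_iso {M : ModuleCat.{u + 1} Λ}
    (e : G.over U ≅ (constantSheaf (J.over U) (ModuleCat.{u + 1} Λ)).obj M) :
    ∃ h : M →ₗ[Λ] Sec G U, IsTriv G h := by
  let top : Over U := Over.mk (𝟙 U)
  let c := LocConst.cs (J.over U) M
  let K := J.over U
  refine ⟨(e.inv.hom.app (op top)).hom.comp (c top).hom, ?_⟩
  haveI : IsIso e.inv.hom := inferInstanceAs (IsIso ((sheafToPresheaf _ _).map e.inv))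
  have key : ∀ (V : Over U) (m : M),
      rs G V.hom ((e.inv.hom.app (op top)).hom ((c top).hom m)) = e.inv.hom.app (op V) (c V m) := fun V m => by
    refine (NatTrans.naturality_apply e.inv.hom (toU V).op _).symm.trans (congrArg _ ?_)
    exact ConcreteCategory.congr_hom (LocConst.cs_map (J := K) M (toU V)) m
  refine ⟨fun {V} g t => ?_, fun {V} g m hm => ?_⟩
  · let W : Over U := Over.mk g
    obtain ⟨x, hx⟩ := (ConcreteCategory.bijective_of_isIso (e.inv.hom.app (op W))).2 t
    have hmem : Presheaf.imageSieve (toSheafify K ((Functor.const (Over U)ᵒᵖ).obj M)) x ∈ K W :=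
      Presheaf.imageSieve_mem _ _ _
    let S : Sieve W := Presheaf.imageSieve (toSheafify K ((Functor.const (Over U)ᵒᵖ).obj M)) x
    refine ⟨Sieve.overEquiv W S, (J.mem_over_iff S).1 hmem, fun {Z} f hf => ?_⟩
    obtain ⟨m, hm⟩ := (Sieve.overEquiv_iff S f).1 hf
    refine ⟨m, (key (Over.mk (f ≫ g)) m).trans ?_⟩
    refine (congrArg _ hm).trans ((NatTrans.naturality_apply e.inv.hom _ x).trans ?_)
    rw [hx]
    rfl
  · by_cases h0 : m = 0
    · exact Or.inl h0
    refine Or.inr ?_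
    let W : Over U := Over.mk g
    have hc : c W m = 0 := by
      refine (ConcreteCategory.bijective_of_isIso (e.inv.hom.app (op W))).1 ?_
      exact ((key W m).symm.trans hm).trans (map_zero _).symm
    have hmem := Presheaf.equalizerSieve_mem K (toSheafify K ((Functor.const (Over U)ᵒᵖ).obj M)) (X := op W) m 0
      (hc.trans (map_zero _).symm)
    let S : Sieve W := Presheaf.equalizerSieve (F := (Functor.const (Over U)ᵒᵖ).obj M) (X := op W) m 0
    exact J.superset_covering (fun Z f hf => (h0 ((Sieve.overEquiv_iff S f).1 hf : _ = _)).elim) ((J.mem_over_iff S).1 hmem)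

end Const

end Groth.L28.ProEt.LC
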